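import Groth.Prelude.Def_CAlgX
import Mathlib.RingTheory.MvPolynomial.Homogeneous
import Mathlib.RingTheory.Ideal.Quotient.Operations

/-!
H1-regular sequences are quasi-regular, and concatenation of quasi-regular sequences.
-/

set_option autoImplicit false
set_option linter.style.haveILetI false
universe u

open MvPolynomial

namespace Groth.Agent.QRAppend

variable {A : Type u} [CommRing A] {n m : ℕ}

theorem prod_pow_mem (f : Fin n → A) (d : Fin n →₀ ℕ) :
    (∏ i, f i ^ d i) ∈ Ideal.span (Set.range f) ^ d.degree := by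
  rw [Finsupp.degree_eq_sum, ← Finset.prod_pow_eq_pow_sum]
  exact Ideal.prod_mem_prod fun i _ => Ideal.pow_mem_pow (Ideal.subset_span (Set.mem_range_self i)) _

theorem eval_mem (f : Fin n → A) {L : Ideal A} {s : ℕ} {P : MvPolynomial (Fin n) A} (hP : P.IsHomogeneous s)
    (hc : ∀ d, P.coeff d ∈ L) : eval f P ∈ Ideal.span (Set.range f) ^ s * L := by
  rw [eval_eq']
  refine Ideal.sum_mem _ fun d hd => ?_
  have h : d.degree = s := by
    rw [Finsupp.degree_eq_weight_one]
    exact hP (mem_support_iff.1 hd)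
  rw [mul_comm (coeff d P), ← h]
  exact Ideal.mul_mem_mul (prod_pow_mem f d) (hc d)

theorem exists_rep (f : Fin n → A) (L : Ideal A) : ∀ (s : ℕ) (z : A), z ∈ Ideal.span (Set.range f) ^ s * L →
    ∃ P : MvPolynomial (Fin n) A, P.IsHomogeneous s ∧ (∀ d, P.coeff d ∈ L) ∧ eval f P = z := by
  classical
  intro s
  induction s with
  | zero =>
    intro z hz
    rw [pow_zero, Ideal.one_eq_top, Ideal.top_mul] at hz
    exact ⟨C z, isHomogeneous_C _ _, fun d => by rw [coeff_C]; split_ifs; exacts [hz, zero_mem _], eval_C _⟩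
  | succ s ih =>
    intro z hz
    rw [pow_succ', mul_assoc] at hz
    induction hz using Submodule.mul_induction_on' with
    | mem_mul_mem a ha b hb =>
      obtain ⟨c, rfl⟩ := Ideal.mem_span_range_iff_exists_fun.1 ha
      obtain ⟨P, hP, hPc, rfl⟩ := ih b hb
      refine ⟨∑ i, C (c i) * (X i * P), IsHomogeneous.sum _ _ _ fun i _ => ?_, fun d => ?_, ?_⟩
      · rw [add_comm]; exact ((isHomogeneous_X A i).mul hP).C_mul _
      · rw [coeff_sum]
        refine Ideal.sum_mem _ fun i _ => ?_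
        rw [coeff_C_mul, coeff_X_mul']
        refine Ideal.mul_mem_left _ _ ?_
        split_ifs
        exacts [hPc _, zero_mem _]
      · simp [Finset.sum_mul, mul_assoc]
    | add x _ y _ hx hy =>
      obtain ⟨P, hP, hPc, rfl⟩ := hx
      obtain ⟨Q, hQ, hQc, rfl⟩ := hy
      exact ⟨P + Q, hP.add hQ, fun d => by rw [coeff_add]; exact add_mem (hPc d) (hQc d), map_add _ _ _⟩

theorem exists_sum_X (P : MvPolynomial (Fin n) A) {k : ℕ} (hP : P.IsHomogeneous (k + 1)) :
    ∃ Q : Fin n → MvPolynomial (Fin n) A, (∀ j, (Q j).IsHomogeneous k) ∧ ∑ j, X j * Q j = P := by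
  classical
  refine (?_ : P ∈ {P | P.IsHomogeneous (k + 1) → ∃ Q : Fin n → MvPolynomial (Fin n) A,
    (∀ j, (Q j).IsHomogeneous k) ∧ ∑ j, X j * Q j = P}) hP
  intro hP
  have key : ∀ d ∈ P.support, ∃ j, d j ≠ 0 := fun d hd => by
    by_contra hcon
    push Not at hcon
    have h : d.degree = k + 1 := by
      rw [Finsupp.degree_eq_weight_one]
      exact hP (mem_support_iff.1 hd)
    rw [Finsupp.degree_eq_sum, Finset.sum_eq_zero fun i _ => hcon i] at h
    exact Nat.succ_ne_zero k h.symm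
  choose j hj using key
  refine ⟨fun i => ∑ d ∈ P.support.attach, if j d.1 d.2 = i then monomial (d.1 - Finsupp.single i 1) (P.coeff d.1) else 0,
    fun i => IsHomogeneous.sum _ _ _ fun d _ => ?_, ?_⟩
  · split_ifs with h
    · subst h
      refine isHomogeneous_monomial _ ?_
      have h2 : d.1.degree = k + 1 := by
        rw [Finsupp.degree_eq_weight_one]
        exact hP (mem_support_iff.1 d.2)
      have h3 : Finsupp.single (j d.1 d.2) 1 ≤ d.1 := Finsupp.single_le_iff.2 (Nat.one_le_iff_ne_zero.2 (hj d.1 d.2))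
      have h4 := congrArg Finsupp.degree (tsub_add_cancel_of_le h3)
      rw [map_add, Finsupp.degree_single, h2] at h4
      omega
    · exact isHomogeneous_zero _ _ _
  · simp only [Finset.mul_sum, mul_ite, mul_zero]
    rw [Finset.sum_comm]
    conv_rhs => rw [P.as_sum, ← Finset.sum_attach]
    refine Finset.sum_congr rfl fun d _ => ?_
    rw [Finset.sum_ite_eq Finset.univ (j d.1 d.2), if_pos (Finset.mem_univ _), X, monomial_mul, one_mul,
      add_tsub_cancel_of_le (Finsupp.single_le_iff.2 (Nat.one_le_iff_ne_zero.2 (hj d.1 d.2)))]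

/-- The trivial relations, in degree `k + 1`. -/
noncomputable def triv (g : Fin m → A) (k : ℕ) : Submodule A (MvPolynomial (Fin m) A) :=
  Submodule.span A {P | ∃ d : Fin m →₀ ℕ, ∃ i j : Fin m, d.degree = k ∧
    P = monomial d 1 * (C (g i) * X j - C (g j) * X i)}

theorem triv_hom (g : Fin m → A) {k : ℕ} {P : MvPolynomial (Fin m) A} (h : P ∈ triv g k) :
    P.IsHomogeneous (k + 1) := by
  induction h using Submodule.span_induction with
  | mem P hP =>
    obtain ⟨d, i, j, hd, rfl⟩ := hP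
    exact (isHomogeneous_monomial 1 hd).mul (((isHomogeneous_X A j).C_mul _).sub ((isHomogeneous_X A i).C_mul _))
  | zero => exact isHomogeneous_zero _ _ _
  | add P Q _ _ hP hQ => exact hP.add hQ
  | smul a P _ hP => rw [smul_eq_C_mul]; exact hP.C_mul _

theorem triv_eval (g : Fin m → A) {k : ℕ} {P : MvPolynomial (Fin m) A} (h : P ∈ triv g k) : eval g P = 0 := by
  induction h using Submodule.span_induction with
  | mem P hP =>
    obtain ⟨d, i, j, -, rfl⟩ := hP
    simp only [map_mul, map_sub, eval_C, eval_X]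
    ring
  | zero => exact map_zero _
  | add P Q _ _ hP hQ => rw [map_add, hP, hQ, add_zero]
  | smul a P _ hP => rw [smul_eq_C_mul, map_mul, hP, mul_zero]

theorem triv_coeff (g : Fin m → A) {k : ℕ} {P : MvPolynomial (Fin m) A} (h : P ∈ triv g k) (e : Fin m →₀ ℕ) :
    P.coeff e ∈ Ideal.span (Set.range g) := by
  classical
  induction h using Submodule.span_induction with
  | mem P hP =>
    obtain ⟨d, i, j, -, rfl⟩ := hP
    rw [coeff_monomial_mul']
    split_ifs
    · rw [one_mul, coeff_sub, coeff_C_mul, coeff_C_mul]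
      exact sub_mem (Ideal.mul_mem_right _ _ (Ideal.subset_span ⟨i, rfl⟩))
        (Ideal.mul_mem_right _ _ (Ideal.subset_span ⟨j, rfl⟩))
    · exact zero_mem _
  | zero => exact zero_mem _
  | add P Q _ _ hP hQ => rw [coeff_add]; exact add_mem hP hQ
  | smul a P _ hP => rw [coeff_smul]; exact Ideal.mul_mem_left _ _ hP

theorem triv_split (g : Fin m → A) {k : ℕ} {P : MvPolynomial (Fin m) A} (h : P ∈ triv g k) :
    ∃ V : Fin m → MvPolynomial (Fin m) A, (∀ j, (V j).IsHomogeneous (k + 1)) ∧ ∑ j, X j * V j = 0 ∧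
      ∑ j, C (g j) * V j = P := by
  classical
  induction h using Submodule.span_induction with
  | mem P hP =>
    obtain ⟨d, i, j, hd, rfl⟩ := hP
    refine ⟨Pi.single i (monomial d 1 * X j) - Pi.single j (monomial d 1 * X i), fun l => ?_, ?_, ?_⟩
    · rw [Pi.sub_apply]
      refine IsHomogeneous.sub ?_ ?_
      · rw [Pi.single_apply]; split_ifs
        exacts [(isHomogeneous_monomial 1 hd).mul (isHomogeneous_X A j), isHomogeneous_zero _ _ _]
      · rw [Pi.single_apply]; split_ifs
        exacts [(isHomogeneous_monomial 1 hd).mul (isHomogeneous_X A i), isHomogeneous_zero _ _ _]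
    · simp [mul_sub, Finset.sum_sub_distrib, Pi.single_apply]; ring
    · simp [mul_sub, Finset.sum_sub_distrib, Pi.single_apply]; ring
  | zero => exact ⟨0, fun _ => isHomogeneous_zero _ _ _, by simp, by simp⟩
  | add P Q _ _ hP hQ =>
    obtain ⟨V, hV, hV1, hV2⟩ := hP
    obtain ⟨W, hW, hW1, hW2⟩ := hQ
    exact ⟨V + W, fun l => (hV l).add (hW l), by simp [mul_add, Finset.sum_add_distrib, hV1, hW1],
      by simp [mul_add, Finset.sum_add_distrib, hV2, hW2]⟩
  | smul a P _ hP =>
    obtain ⟨V, hV, hV1, hV2⟩ := hP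
    refine ⟨fun l => C a * V l, fun l => (hV l).C_mul _, ?_, ?_⟩
    · simp only [mul_left_comm _ (C a)]; rw [← Finset.mul_sum, hV1, mul_zero]
    · simp only [mul_left_comm _ (C a)]; rw [← Finset.mul_sum, hV2, smul_eq_C_mul]

/-- Syzygies of the monomials of degree `k + 1`. -/
theorem mem_triv_of_eval (g : Fin m → A) (hg : CAlgX.IsH1Regular g) :
    ∀ (k : ℕ) (P : MvPolynomial (Fin m) A), P.IsHomogeneous (k + 1) → eval g P = 0 → P ∈ triv g k := by
  classical
  intro k
  induction k using Nat.strong_induction_on with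
  | _ k ih =>
  intro P hP h0
  obtain ⟨Q, hQ, rfl⟩ := exists_sum_X P hP
  have hQ' : (∑ j, C (g j) * Q j).IsHomogeneous k := IsHomogeneous.sum _ _ _ fun j _ => (hQ j).C_mul _
  have hQ0 : eval g (∑ j, C (g j) * Q j) = 0 := by
    rw [← h0]
    simp
  obtain ⟨V, hV, hV1, hV2⟩ : ∃ V : Fin m → MvPolynomial (Fin m) A, (∀ j, (V j).IsHomogeneous k) ∧
      ∑ j, X j * V j = 0 ∧ ∑ j, C (g j) * V j = ∑ j, C (g j) * Q j := by
    match k with
    | 0 =>
      refine ⟨0, fun _ => isHomogeneous_zero _ _ _, by simp, ?_⟩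
      rw [← totalDegree_zero_iff_isHomogeneous, totalDegree_eq_zero_iff_eq_C] at hQ'
      rw [hQ', eval_C] at hQ0
      rw [hQ', hQ0, map_zero]
      simp
    | k + 1 => exact triv_split g (ih k (Nat.lt_succ_self k) _ hQ' hQ0)
  have hW : ∀ d : Fin m →₀ ℕ, ∑ j, (Q j - V j).coeff d * g j = 0 := fun d => by
    have h1 : coeff d (∑ j, C (g j) * (Q j - V j)) = 0 := by
      simp only [mul_sub, Finset.sum_sub_distrib, hV2, sub_self, coeff_zero]
    rw [coeff_sum] at h1
    simp only [coeff_C_mul] at h1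
    rw [← h1]
    exact Finset.sum_congr rfl fun j _ => mul_comm _ _
  have hkey : ∀ d : Fin m →₀ ℕ, ∀ v : Fin m → A, d.degree = k →
      v ∈ Submodule.span A {v : Fin m → A | ∃ i j : Fin m, v = Pi.single i (g j) - Pi.single j (g i)} →
      ∑ j, X j * monomial d (v j) ∈ triv g k := by
    intro d v hd hv
    induction hv using Submodule.span_induction with
    | mem v hv =>
      obtain ⟨i, j, rfl⟩ := hv
      have : ∑ l, X l * monomial d ((Pi.single i (g j) - Pi.single j (g i) : Fin m → A) l) =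
          monomial d 1 * (C (g j) * X i - C (g i) * X j) := by
        have hm : ∀ c : A, monomial d c = monomial d 1 * C c := fun c => by rw [mul_comm, C_mul_monomial, mul_one]
        simp only [Pi.sub_apply, map_sub, mul_sub, Finset.sum_sub_distrib]
        rw [Finset.sum_eq_single i (fun l _ hl => by rw [Pi.single_eq_of_ne hl, map_zero, mul_zero]) (by simp),
          Finset.sum_eq_single j (fun l _ hl => by rw [Pi.single_eq_of_ne hl, map_zero, mul_zero]) (by simp),
          Pi.single_eq_same, Pi.single_eq_same, hm (g j), hm (g i)]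
        ring
      rw [this]
      exact Submodule.subset_span ⟨d, j, i, hd, rfl⟩
    | zero => simp
    | add v w _ _ hv hw => simp only [Pi.add_apply, map_add, mul_add, Finset.sum_add_distrib]; exact add_mem hv hw
    | smul a v _ hv =>
      have : ∑ l, X l * monomial d ((a • v) l) = a • ∑ l, X l * monomial d (v l) := by
        rw [Finset.smul_sum]
        refine Finset.sum_congr rfl fun l _ => ?_
        rw [Pi.smul_apply, ← mul_smul_comm, smul_monomial]
      rw [this]
      exact Submodule.smul_mem _ _ hv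
  rw [show ∑ j, X j * Q j = ∑ j, X j * (Q j - V j) by
    simp only [mul_sub, Finset.sum_sub_distrib, hV1, sub_zero]]
  let S : Finset (Fin m →₀ ℕ) := Finset.univ.biUnion fun j => (Q j - V j).support
  rw [show ∑ j, X j * (Q j - V j) = ∑ d ∈ S, ∑ j, X j * monomial d ((Q j - V j).coeff d) by
    rw [Finset.sum_comm]
    refine Finset.sum_congr rfl fun j _ => ?_
    rw [← Finset.mul_sum]
    congr 1
    conv_lhs => rw [(Q j - V j).as_sum]
    refine Finset.sum_subset (fun d hd => Finset.mem_biUnion.2 ⟨j, Finset.mem_univ _, hd⟩) fun d _ hd => ?_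
    rw [notMem_support_iff.1 hd, map_zero]]
  refine Submodule.sum_mem _ fun d hd => hkey d _ ?_ (hg _ (hW d))
  obtain ⟨j, -, hj⟩ := Finset.mem_biUnion.1 hd
  rw [Finsupp.degree_eq_weight_one]
  exact ((hQ j).sub (hV j)) (mem_support_iff.1 hj)

theorem quasiRegular_of_H1 (g : Fin m → A) (hg : CAlgX.IsH1Regular g) : CAlgX.IsQuasiRegular g := by
  classical
  intro k P hP h d
  rw [pow_succ] at h
  obtain ⟨R, hR, hRc, hRe⟩ := exists_rep g _ k _ h
  have h0 : eval g (P - R) = 0 := by rw [map_sub, hRe, sub_self]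
  have hd : (P - R).coeff d ∈ Ideal.span (Set.range g) := by
    match k, hP, hR with
    | 0, hP, hR =>
      have hPR := hP.sub hR
      rw [← totalDegree_zero_iff_isHomogeneous, totalDegree_eq_zero_iff_eq_C] at hPR
      rw [hPR, eval_C] at h0
      rw [hPR, h0, map_zero, coeff_zero]
      exact zero_mem _
    | k + 1, hP, hR => exact triv_coeff g (mem_triv_of_eval g hg k _ (hP.sub hR) h0) d
  rw [coeff_sub] at hd
  simpa using add_mem hd (hRc d)

section Hom

variable {B : Type u} [CommRing B] (φ : A →+* B) (g : Fin m → A)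

theorem eval_map_eq (Q : MvPolynomial (Fin m) A) : eval (fun j => φ (g j)) (Q.map φ) = φ (eval g Q) := by
  rw [eval_map, eval₂_comp]
  rfl

theorem exists_ker_coeff (hφ : Function.Surjective φ) (hg : CAlgX.IsH1Regular (fun j => φ (g j))) {k : ℕ}
    {Q : MvPolynomial (Fin m) A} (hQ : Q.IsHomogeneous (k + 1)) (h0 : φ (eval g Q) = 0) :
    ∃ Q₁ : MvPolynomial (Fin m) A, Q₁.IsHomogeneous (k + 1) ∧ (∀ d, φ (Q₁.coeff d) = 0) ∧ eval g Q₁ = eval g Q := by
  have hQm : Q.map φ ∈ triv (fun j => φ (g j)) k :=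
    mem_triv_of_eval _ hg k _ (hQ.map φ) ((eval_map_eq φ g Q).trans h0)
  generalize hQ0 : Q.map φ = Q₀ at hQm
  obtain ⟨Q', hQ', hQ'e⟩ : ∃ Q', Q' ∈ triv g k ∧ Q'.map φ = Q₀ := by
    clear hQ0
    induction hQm using Submodule.span_induction with
    | mem P hP =>
      obtain ⟨d, i, j, hd, rfl⟩ := hP
      exact ⟨_, Submodule.subset_span ⟨d, i, j, hd, rfl⟩, by simp⟩
    | zero => exact ⟨0, zero_mem _, map_zero _⟩
    | add P P' _ _ hP hP' =>
      obtain ⟨a, ha, ha'⟩ := hP
      obtain ⟨b, hb, hb'⟩ := hP'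
      exact ⟨a + b, add_mem ha hb, by rw [map_add, ha', hb']⟩
    | smul c P _ hP =>
      obtain ⟨a, ha, ha'⟩ := hP
      obtain ⟨c, rfl⟩ := hφ c
      exact ⟨c • a, Submodule.smul_mem _ _ ha, by rw [smul_eq_C_mul, map_mul, map_C, ha', smul_eq_C_mul]⟩
  exact ⟨Q - Q', hQ.sub (triv_hom g hQ'), fun d => by rw [← coeff_map, map_sub, hQ'e, hQ0, sub_self, coeff_zero],
    by rw [map_sub, triv_eval g hQ', sub_zero]⟩

theorem coeff_mem_of_map (hg : CAlgX.IsH1Regular (fun j => φ (g j))) {k : ℕ} {P : MvPolynomial (Fin m) A}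
    (hP : P.IsHomogeneous k) {K : Ideal A} (hK : K.map φ = Ideal.span (Set.range fun j => φ (g j)))
    (c : A) (hc : c ∈ K ^ (k + 1)) (h : φ (eval g P) = φ c) (d : Fin m →₀ ℕ) : P.coeff d ∈ (K.map φ).comap φ := by
  have hq := quasiRegular_of_H1 _ hg k _ (hP.map φ) (by
    rw [eval_map_eq, h, ← hK, ← Ideal.map_pow]
    exact Ideal.mem_map_of_mem φ hc) d
  rw [coeff_map, ← hK] at hq
  exact hq

end Hom

section Append

variable (f : Fin n → A) (g : Fin m → A)

theorem pow_le (k : ℕ) : ((Ideal.span (Set.range f)) ⊔ (Ideal.span (Set.range g))) ^ (k + 1) ≤ (Ideal.span (Set.range g)) ^ (k + 1) ⊔ (Ideal.span (Set.range f)) * ((Ideal.span (Set.range f)) ⊔ (Ideal.span (Set.range g))) ^ k := by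
  induction k with
  | zero => rw [pow_one, pow_one, pow_zero, mul_one, sup_comm]
  | succ k ih =>
    calc ((Ideal.span (Set.range f)) ⊔ (Ideal.span (Set.range g))) ^ (k + 1 + 1) = (Ideal.span (Set.range f)) * ((Ideal.span (Set.range f)) ⊔ (Ideal.span (Set.range g))) ^ (k + 1) ⊔ (Ideal.span (Set.range g)) * ((Ideal.span (Set.range f)) ⊔ (Ideal.span (Set.range g))) ^ (k + 1) := by
          rw [pow_succ', Ideal.sup_mul]
      _ ≤ (Ideal.span (Set.range f)) * ((Ideal.span (Set.range f)) ⊔ (Ideal.span (Set.range g))) ^ (k + 1) ⊔ (Ideal.span (Set.range g)) * ((Ideal.span (Set.range g)) ^ (k + 1) ⊔ (Ideal.span (Set.range f)) * ((Ideal.span (Set.range f)) ⊔ (Ideal.span (Set.range g))) ^ k) := sup_le_sup_left (Ideal.mul_mono_right ih) _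
      _ ≤ _ := by
        rw [Ideal.mul_sup, ← pow_succ', mul_left_comm]
        refine sup_le le_sup_right (sup_le le_sup_left (le_sup_of_le_right (Ideal.mul_mono_right ?_)))
        rw [pow_succ']
        exact Ideal.mul_mono_left le_sup_right

theorem map_span_range {B : Type u} [CommRing B] (φ : A →+* B) :
    (Ideal.span (Set.range g)).map φ = Ideal.span (Set.range fun j => φ (g j)) := by
  rw [Ideal.map_span, ← Set.range_comp]
  rfl

variable {B : Type u} [CommRing B] (φ : A →+* B) (hφ : Function.Surjective φ) (hker : RingHom.ker φ = (Ideal.span (Set.range f)))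
  (hf : CAlgX.IsQuasiRegular f) (hg : CAlgX.IsH1Regular (fun j => φ (g j)))

include hφ hker hg in
theorem inter_pow_le (k : ℕ) : (Ideal.span (Set.range f)) ⊓ (Ideal.span (Set.range g)) ^ (k + 1) ≤ (Ideal.span (Set.range f)) * ((Ideal.span (Set.range f)) ⊔ (Ideal.span (Set.range g))) ^ k := by
  classical
  rintro u ⟨hu1, hu2⟩
  obtain ⟨Q, hQ, -, rfl⟩ := exists_rep g (⊤ : Ideal A) (k + 1) u (by rw [Ideal.mul_top]; exact hu2)
  obtain ⟨Q₁, hQ₁, hc, he⟩ := exists_ker_coeff φ g hφ hg hQ
    (RingHom.mem_ker.1 (hker.ge hu1))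
  have h1 := eval_mem g (L := (Ideal.span (Set.range f))) hQ₁ fun d => hker.le (RingHom.mem_ker.2 (hc d))
  rw [he, mul_comm] at h1
  refine Ideal.mul_mono_right ?_ h1
  rw [pow_succ]
  exact Ideal.mul_le_left.trans (Ideal.pow_right_mono le_sup_right k)

include hφ hker hf hg in
theorem inter_le (s : ℕ) : ∀ k, (Ideal.span (Set.range f)) ^ s ⊓ ((Ideal.span (Set.range f)) ⊔ (Ideal.span (Set.range g))) ^ (k + s) ≤ (Ideal.span (Set.range f)) ^ s * ((Ideal.span (Set.range f)) ⊔ (Ideal.span (Set.range g))) ^ k := by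
  induction s with
  | zero => intro k; simp
  | succ s ih =>
    rintro k z ⟨hz1, hz2⟩
    have h1 : z ∈ (Ideal.span (Set.range f)) ^ s * ((Ideal.span (Set.range g)) ^ (k + 1) ⊔ (Ideal.span (Set.range f)) * ((Ideal.span (Set.range f)) ⊔ (Ideal.span (Set.range g))) ^ k) :=
      Ideal.mul_mono_right (pow_le f g k) (ih (k + 1) ⟨Ideal.pow_le_pow_right s.le_succ hz1, by
        rwa [show k + 1 + s = k + (s + 1) by omega]⟩)
    rw [Ideal.mul_sup, Submodule.mem_sup] at h1
    obtain ⟨a, ha, b, hb, rfl⟩ := h1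
    have hb' : b ∈ (Ideal.span (Set.range f)) ^ (s + 1) * ((Ideal.span (Set.range f)) ⊔ (Ideal.span (Set.range g))) ^ k := by rwa [pow_succ, mul_assoc]
    refine add_mem ?_ hb'
    obtain ⟨P, hP, hPc, rfl⟩ := exists_rep f _ s a ha
    have hmem : eval f P ∈ (Ideal.span (Set.range f)) ^ (s + 1) := (Submodule.add_mem_iff_left _ (Ideal.mul_le_left hb')).1 hz1
    rw [pow_succ, mul_assoc]
    exact eval_mem f hP fun d => inter_pow_le f g φ hφ hker hg k ⟨hf s P hP hmem d, hPc d⟩

include hφ hker hf hg in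
theorem quasiRegular_append : CAlgX.IsQuasiRegular (Fin.append f g) := by
  classical
  intro N P hP hev
  have hJ : Ideal.span (Set.range (Fin.append f g)) = (Ideal.span (Set.range f)) ⊔ (Ideal.span (Set.range g)) := by
    rw [← Ideal.span_union]
    congr 1
    ext x
    constructor
    · rintro ⟨i, rfl⟩
      refine Fin.addCases (fun i => ?_) (fun j => ?_) i
      · exact Or.inl ⟨i, (Fin.append_left f g i).symm⟩
      · exact Or.inr ⟨j, (Fin.append_right f g j).symm⟩
    · rintro (⟨i, rfl⟩ | ⟨j, rfl⟩)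
      · exact ⟨Fin.castAdd m i, Fin.append_left f g i⟩
      · exact ⟨Fin.natAdd n j, Fin.append_right f g j⟩
  rw [hJ] at hev ⊢
  let L : (Fin (n + m) →₀ ℕ) → (Fin n →₀ ℕ) := fun d => Finsupp.equivFunOnFinite.symm fun i => d (Fin.castAdd m i)
  let R : (Fin (n + m) →₀ ℕ) → (Fin m →₀ ℕ) := fun d => Finsupp.equivFunOnFinite.symm fun j => d (Fin.natAdd n j)
  have hinj : ∀ d e, L d = L e → R d = R e → d = e := fun d e h1 h2 => Finsupp.ext fun i => by
    refine Fin.addCases (fun i => ?_) (fun j => ?_) i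
    · exact DFunLike.congr_fun h1 i
    · exact DFunLike.congr_fun h2 j
  have hdeg : ∀ d ∈ P.support, (L d).degree + (R d).degree = N := fun d hd => by
    have h : d.degree = N := by
      rw [Finsupp.degree_eq_weight_one]
      exact hP (mem_support_iff.1 hd)
    rw [← h, Finsupp.degree_eq_sum, Finsupp.degree_eq_sum, Finsupp.degree_eq_sum, Fin.sum_univ_add]
    rfl
  let t : (Fin (n + m) →₀ ℕ) → A := fun d => P.coeff d * ((∏ i, f i ^ L d i) * ∏ j, g j ^ R d j)
  have hevalP : eval (Fin.append f g) P = ∑ d ∈ P.support, t d := by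
    rw [eval_eq']
    refine Finset.sum_congr rfl fun d _ => ?_
    rw [Fin.prod_univ_add]
    simp only [Fin.append_left, Fin.append_right]
    rfl
  suffices H : ∀ s, ∀ d ∈ P.support, (L d).degree = s → P.coeff d ∈ (Ideal.span (Set.range f)) ⊔ (Ideal.span (Set.range g)) by
    intro d
    by_cases hd : d ∈ P.support
    · exact H _ d hd rfl
    · rw [notMem_support_iff.1 hd]; exact zero_mem _
  intro s
  induction s using Nat.strong_induction_on with
  | _ s ih =>
  intro d₀ hd₀ hs₀
  have hsN : s ≤ N := by have := hdeg d₀ hd₀; omega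
  set U := P.support.filter fun d => s ≤ (L d).degree
  have hzJ : ∑ d ∈ U, t d ∈ ((Ideal.span (Set.range f)) ⊔ (Ideal.span (Set.range g))) ^ (N + 1 - s + s) := by
    rw [Nat.sub_add_cancel (by omega)]
    rw [hevalP, ← Finset.sum_filter_add_sum_filter_not P.support (fun d => s ≤ (L d).degree)] at hev
    refine (Submodule.add_mem_iff_left _ (Ideal.sum_mem _ fun d hd => ?_)).1 hev
    obtain ⟨hd, hlt⟩ := Finset.mem_filter.1 hd
    rw [pow_succ', ← hdeg d hd, pow_add]
    exact Ideal.mul_mem_mul (ih _ (not_le.1 hlt) d hd rfl)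
      (Ideal.mul_mem_mul (Ideal.pow_right_mono le_sup_left _ (prod_pow_mem f _))
        (Ideal.pow_right_mono le_sup_right _ (prod_pow_mem g _)))
  have hterm : ∀ d, t d ∈ (Ideal.span (Set.range f)) ^ (L d).degree := fun d =>
    Ideal.mul_mem_left _ _ (Ideal.mul_mem_right _ _ (prod_pow_mem f _))
  have hzI : ∑ d ∈ U, t d ∈ (Ideal.span (Set.range f)) ^ s := Ideal.sum_mem _ fun d hd =>
    Ideal.pow_le_pow_right (Finset.mem_filter.1 hd).2 (hterm d)
  obtain ⟨Ψ, hΨ, hΨc, hΨe⟩ := exists_rep f _ s _ (inter_le f g φ hφ hker hf hg s (N + 1 - s) ⟨hzI, hzJ⟩)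
  set T := P.support.filter fun d => (L d).degree = s
  set Φ : MvPolynomial (Fin n) A := ∑ d ∈ T, monomial (L d) (P.coeff d * ∏ j, g j ^ R d j)
  have hΦ : Φ.IsHomogeneous s := IsHomogeneous.sum _ _ _ fun d hd => isHomogeneous_monomial _ (Finset.mem_filter.1 hd).2
  have hdiff : eval f (Φ - Ψ) ∈ (Ideal.span (Set.range f)) ^ (s + 1) := by
    have hΦe : eval f Φ = ∑ d ∈ T, t d := by
      rw [map_sum]
      refine Finset.sum_congr rfl fun d _ => ?_
      rw [eval_monomial, Finsupp.prod_fintype _ _ fun _ => pow_zero _]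
      simp only [t]; ring
    have hsplit : ∑ d ∈ U, t d = (∑ d ∈ T, t d) + ∑ d ∈ U.filter (fun d => ¬ (L d).degree = s), t d := by
      rw [← Finset.sum_filter_add_sum_filter_not U (fun d => (L d).degree = s)]
      congr 1
      refine Finset.sum_congr ?_ fun _ _ => rfl
      ext d
      simp only [U, T, Finset.mem_filter]
      exact ⟨fun h => ⟨h.1.1, h.2⟩, fun h => ⟨⟨h.1, h.2.ge⟩, h.2⟩⟩
    rw [map_sub, hΦe, hΨe, hsplit, sub_add_cancel_left]
    refine neg_mem (Ideal.sum_mem _ fun d hd => ?_)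
    obtain ⟨hd, hne⟩ := Finset.mem_filter.1 hd
    exact Ideal.pow_le_pow_right (by have := (Finset.mem_filter.1 hd).2; omega) (hterm d)
  have hcoef := hf s _ (hΦ.sub hΨ) hdiff (L d₀)
  rw [coeff_sub] at hcoef
  set T₀ := T.filter fun d => L d = L d₀
  set Pα : MvPolynomial (Fin m) A := ∑ d ∈ T₀, monomial (R d) (P.coeff d)
  have hPα : Pα.IsHomogeneous (N - s) := IsHomogeneous.sum _ _ _ fun d hd => isHomogeneous_monomial _ (by
    obtain ⟨hd, -⟩ := Finset.mem_filter.1 hd
    obtain ⟨hd, hds⟩ := Finset.mem_filter.1 hd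
    have := hdeg d hd
    omega)
  have heα : eval g Pα = Φ.coeff (L d₀) := by
    rw [coeff_sum, map_sum, Finset.sum_filter]
    refine Finset.sum_congr rfl fun d _ => ?_
    rw [coeff_monomial]
    split_ifs
    · rw [eval_monomial, Finsupp.prod_fintype _ _ fun _ => pow_zero _]
    · rfl
  have hmap : ((Ideal.span (Set.range f)) ⊔ (Ideal.span (Set.range g))).map φ = Ideal.span (Set.range fun j => φ (g j)) := by
    rw [Ideal.map_sup, (Ideal.map_eq_bot_iff_le_ker φ).2 hker.ge, bot_sup_eq, map_span_range]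
  have hq := coeff_mem_of_map φ g hg hPα hmap (Ψ.coeff (L d₀))
    (by rw [show N - s + 1 = N + 1 - s by omega]; exact hΨc _)
    (by rw [heα, ← sub_eq_zero, ← map_sub]; exact RingHom.mem_ker.1 (hker.ge hcoef)) (R d₀)
  rw [Ideal.comap_map_of_surjective' _ hφ, hker, sup_eq_left.2 le_sup_left] at hq
  have : Pα.coeff (R d₀) = P.coeff d₀ := by
    rw [coeff_sum, Finset.sum_eq_single d₀, coeff_monomial, if_pos rfl]
    · intro d hd hne
      rw [coeff_monomial, if_neg]
      exact fun h => hne (hinj d d₀ (Finset.mem_filter.1 hd).2 h)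
    · intro h
      refine absurd ?_ h
      simp only [T₀, T, Finset.mem_filter]
      exact ⟨⟨hd₀, hs₀⟩, trivial⟩
  rwa [this] at hq

end Append

theorem quasiRegular_append_quotient (f : Fin n → A) (g : Fin m → A) (hf : CAlgX.IsQuasiRegular f)
    (hg : CAlgX.IsH1Regular (fun j => Ideal.Quotient.mk (Ideal.span (Set.range f)) (g j))) :
    CAlgX.IsQuasiRegular (Fin.append f g) :=
  quasiRegular_append f g (Ideal.Quotient.mk (Ideal.span (Set.range f))) Ideal.Quotient.mk_surjective
    Ideal.mk_ker hf hg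

end Groth.Agent.QRAppend
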